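import Mathlib

/-!
# Extending field embeddings to automorphisms of a big algebraically closed field (helper2)

* `exists_ringEquiv_extending`: two embeddings `f₁ : k → K₁`, `f₂ : k → K₂` into algebraically
  closed fields of the same cardinality, bigger than `max #k ℵ₀`, differ by an isomorphism
  `K₁ ≃+* K₂` (transcendence bases have the same cardinality).
* `exists_big_algClosed`: for two embeddings `σ₀ τ₀ : k → L` there are an algebraically closed
  extension `ι : L → k'` and an automorphism `β` of `k'` with `β ∘ ι ∘ σ₀ = ι ∘ τ₀`.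
-/

set_option backward.isDefEq.respectTransparency.types false
set_option autoImplicit false
set_option synthInstance.maxHeartbeats 400000
set_option maxHeartbeats 4000000
set_option linter.style.haveILetI false
set_option linter.unusedSectionVars false
set_option linter.unusedVariables false
set_option linter.unusedSimpArgs false
set_option linter.unnecessarySimpa false

namespace Groth.Agent.Helper2.GpdField

universe u

theorem card_basis {k K : Type u} [Field k] [Field K] [Algebra k K] [IsAlgClosed K] {ι : Type u}
    (v : ι → K) (hv : IsTranscendenceBasis k v)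
    (hbig : max (Cardinal.mk k) Cardinal.aleph0 < Cardinal.mk K) :
    Cardinal.mk ι = Cardinal.mk K := by
  apply le_antisymm (Cardinal.mk_le_of_injective hv.1.injective)
  by_contra hlt
  rw [not_le] at hlt
  have h1 := IsAlgClosed.cardinal_le_max_transcendence_basis' v hv
  have h2 : max (max (Cardinal.mk k) (Cardinal.mk ι)) Cardinal.aleph0 < Cardinal.mk K :=
    max_lt (max_lt ((le_max_left _ _).trans_lt hbig) hlt) ((le_max_right _ _).trans_lt hbig)
  exact absurd h1 (not_le.2 h2)

theorem exists_ringEquiv_extending {k K1 K2 : Type u} [Field k] [Field K1] [Field K2]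
    [IsAlgClosed K1] [IsAlgClosed K2] (f1 : k →+* K1) (f2 : k →+* K2)
    (hcard : Cardinal.mk K1 = Cardinal.mk K2)
    (hbig : max (Cardinal.mk k) Cardinal.aleph0 < Cardinal.mk K1) :
    ∃ e : K1 ≃+* K2, e.toRingHom.comp f1 = f2 := by
  letI := f1.toAlgebra
  letI := f2.toAlgebra
  obtain ⟨ι1, v1, hv1⟩ := exists_isTranscendenceBasis' k K1
  obtain ⟨ι2, v2, hv2⟩ := exists_isTranscendenceBasis' k K2
  have hbig2 : max (Cardinal.mk k) Cardinal.aleph0 < Cardinal.mk K2 := by
    rw [← hcard]; exact hbig
  have hι1 : Cardinal.mk ι1 = Cardinal.mk K1 := card_basis v1 hv1 hbig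
  have hι2 : Cardinal.mk ι2 = Cardinal.mk K2 := card_basis v2 hv2 hbig2
  obtain ⟨e⟩ := Cardinal.eq.1 (hι1.trans (hcard.trans hι2.symm))
  letI := IsAlgClosed.isAlgClosure_of_transcendence_basis v1 hv1
  letI := IsAlgClosed.isAlgClosure_of_transcendence_basis v2 hv2
  let e0 : Algebra.adjoin k (Set.range v1) ≃ₐ[k] Algebra.adjoin k (Set.range v2) :=
    hv1.1.aevalEquiv.symm.trans ((MvPolynomial.renameEquiv k e).trans hv2.1.aevalEquiv)
  refine ⟨IsAlgClosure.equivOfEquiv K1 K2 e0.toRingEquiv, ?_⟩
  refine RingHom.ext fun x => ?_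
  have h1 : f1 x = algebraMap (Algebra.adjoin k (Set.range v1)) K1
      (algebraMap k (Algebra.adjoin k (Set.range v1)) x) := rfl
  have h2 : f2 x = algebraMap (Algebra.adjoin k (Set.range v2)) K2
      (algebraMap k (Algebra.adjoin k (Set.range v2)) x) := rfl
  change IsAlgClosure.equivOfEquiv K1 K2 e0.toRingEquiv (f1 x) = f2 x
  rw [h1, h2, IsAlgClosure.equivOfEquiv_algebraMap]
  congr 1
  exact e0.commutes x

/-- The index set of the big polynomial ring. -/
abbrev BigT (L : Type u) : Type u := Set (L × ℕ)

/-- The big purely transcendental extension. -/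
abbrev BigF (L : Type u) [Field L] : Type u := FractionRing (MvPolynomial (BigT L) L)

/-- The big algebraically closed extension. -/
abbrev BigK (L : Type u) [Field L] : Type u := AlgebraicClosure (BigF L)

/-- The embedding of `L` into its big algebraically closed extension. -/
noncomputable def bigι (L : Type u) [Field L] : L →+* BigK L :=
  (algebraMap (BigF L) (BigK L)).comp
    ((algebraMap (MvPolynomial (BigT L) L) (BigF L)).comp MvPolynomial.C)

theorem card_big {k L : Type u} [Field k] [Field L] (σ0 : k →+* L) :
    max (Cardinal.mk k) Cardinal.aleph0 < Cardinal.mk (BigK L) := by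
  have hlt : Cardinal.mk (L × ℕ) < Cardinal.mk (BigT L) := by
    rw [Cardinal.mk_set]; exact Cardinal.cantor _
  have h1 : Cardinal.mk k ≤ Cardinal.mk (L × ℕ) :=
    Cardinal.mk_le_of_injective (f := fun x => (σ0 x, 0))
      (fun a b h => σ0.injective (congrArg Prod.fst h))
  have h2 : Cardinal.aleph0 ≤ Cardinal.mk (L × ℕ) := Cardinal.aleph0_le_mk _
  have hTk : Cardinal.mk (BigT L) ≤ Cardinal.mk (BigK L) :=
    Cardinal.mk_le_of_injective
      (f := fun t : BigT L => algebraMap (BigF L) (BigK L)
        (algebraMap (MvPolynomial (BigT L) L) (BigF L) (MvPolynomial.X t)))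
      ((algebraMap (BigF L) (BigK L)).injective.comp
        ((IsFractionRing.injective (MvPolynomial (BigT L) L) (BigF L)).comp
          MvPolynomial.X_injective))
  exact ((max_le h1 h2).trans_lt hlt).trans_le hTk

theorem exists_big_algClosed {k L : Type u} [Field k] [Field L] (σ0 τ0 : k →+* L) :
    ∃ (k' : Type u) (_ : Field k') (_ : IsAlgClosed k') (ι : L →+* k') (β : k' ≃+* k'),
      β.toRingHom.comp (ι.comp σ0) = ι.comp τ0 := by
  obtain ⟨β, hβ⟩ := exists_ringEquiv_extending ((bigι L).comp σ0) ((bigι L).comp τ0) rfl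
    (card_big σ0)
  exact ⟨BigK L, inferInstance, inferInstance, bigι L, β, hβ⟩

end Groth.Agent.Helper2.GpdField
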