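import Mathlib
import Groth.Prelude.Def_AlgSpGpd
import Groth.Prelude.Def_AlgSpDec
import Groth.Agent.Lib.Helper2.GpdField.FieldExt

/-!
# Points of a groupoid over a field after an algebraically closed extension (helper2)
-/

set_option backward.isDefEq.respectTransparency.types false
set_option autoImplicit false
set_option synthInstance.maxHeartbeats 400000
set_option maxHeartbeats 4000000
set_option linter.style.haveILetI false
set_option linter.unusedSectionVars false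
set_option linter.unusedVariables false
set_option linter.unusedSimpArgs false
set_option linter.unnecessarySimpa false

open CategoryTheory CategoryTheory.Limits AlgebraicGeometry Opposite AlgSp

namespace Groth.Agent.Helper2.GpdField

universe u

variable {S : Scheme.{u}}

/-- Every point of `h_{Spec K}` maps under `p.toHom` to the class of `p`. -/
theorem map_toHom_eq (F : Sp S) (p : FieldPt F) (y : Points ((yon S).obj p.pt)) :
    Points.map p.toHom y = Points.mk p := by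
  rw [← Points.ofScheme_toScheme p.pt y]
  have h1 : Points.map p.toHom (Points.ofScheme p.pt (Points.toScheme p.pt y)) =
      Points.ofPt (𝟙 _ ≫ p.toHom) (Points.toScheme p.pt y) := rfl
  rw [h1, Category.id_comp]
  exact Points.ofPt_toHom p _

/-- The categorical core: given the source and target of a field valued point `p` of `R` as
morphisms of schemes, a scheme `W` over the field of `p` and an automorphism `βO` of `W` turning
the source into the target, the restriction of the groupoid to `W` has a section of `R'` over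
`W` through `p` whose source is the identity and whose target is `βO`. -/
theorem core {B : Sp S} (G : GroupoidSp B) {V : Over S}
    (eU : G.U ≅ (yon S).obj V) (p : FieldPt G.R) (sO tO : p.pt ⟶ V)
    (hsO : (yon S).map sO = p.toHom ≫ G.s ≫ eU.hom)
    (htO : (yon S).map tO = p.toHom ≫ G.t ≫ eU.hom)
    {W : Over S} (aO : W ⟶ V) (ιO : W ⟶ p.pt) (βO : W ⟶ W) [IsIso βO]
    (hι : ιO ≫ sO = aO) (hβ : βO ≫ aO = ιO ≫ tO)
    (G' : GroupoidSp B) (φ : GroupoidSp.Hom G' G) (hres : φ.IsRestriction)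
    (eU' : G'.U ≅ (yon S).obj W)
    (hφ : φ.fU = eU'.hom ≫ (yon S).map aO ≫ eU.inv) :
    ∃ r' : G'.U ⟶ G'.R, (∀ x : Points G'.U, Points.map (r' ≫ φ.fR) x = Points.mk p) ∧
      IsIso (r' ≫ G'.s) ∧ IsIso (r' ≫ G'.t) := by
  have hres' : IsPullback φ.fR G'.j G.j φ.prodMap := hres
  have hs' : p.toHom ≫ G.s = (yon S).map sO ≫ eU.inv := by
    rw [hsO, Category.assoc, Category.assoc, eU.hom_inv_id, Category.comp_id]
  have ht' : p.toHom ≫ G.t = (yon S).map tO ≫ eU.inv := by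
    rw [htO, Category.assoc, Category.assoc, eU.hom_inv_id, Category.comp_id]
  obtain ⟨ρ, hρ⟩ : ∃ ρ : G'.U ⟶ G.R, ρ = eU'.hom ≫ (yon S).map ιO ≫ p.toHom := ⟨_, rfl⟩
  obtain ⟨mt, hmt⟩ : ∃ mt : G'.U ⟶ G'.U, mt = eU'.hom ≫ (yon S).map βO ≫ eU'.inv := ⟨_, rfl⟩
  have hρs : ρ ≫ G.s = φ.fU := by
    rw [hρ, Category.assoc, Category.assoc, hs', ← Functor.map_comp_assoc, hι, hφ]
  have hρt : ρ ≫ G.t = mt ≫ φ.fU := by
    have h1 : ρ ≫ G.t = eU'.hom ≫ (yon S).map (ιO ≫ tO) ≫ eU.inv := by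
      rw [hρ, Category.assoc, Category.assoc, ht', ← Functor.map_comp_assoc]
    have h2 : mt ≫ φ.fU = eU'.hom ≫ (yon S).map (βO ≫ aO) ≫ eU.inv := by
      rw [hmt, hφ, Category.assoc, Category.assoc, Iso.inv_hom_id_assoc,
        ← Functor.map_comp_assoc]
    rw [h1, h2, hβ]
  have hmt_over : mt ≫ G'.pU = G'.pU :=
    calc mt ≫ G'.pU = mt ≫ (φ.fU ≫ G.pU) := by rw [φ.fU_over]
      _ = (mt ≫ φ.fU) ≫ G.pU := (Category.assoc _ _ _).symm
      _ = (ρ ≫ G.t) ≫ G.pU := by rw [hρt]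
      _ = ρ ≫ (G.t ≫ G.pU) := Category.assoc _ _ _
      _ = ρ ≫ (G.s ≫ G.pU) := by rw [G.t_over, G.s_over]
      _ = (ρ ≫ G.s) ≫ G.pU := (Category.assoc _ _ _).symm
      _ = φ.fU ≫ G.pU := by rw [hρs]
      _ = G'.pU := φ.fU_over
  obtain ⟨m, hm⟩ : ∃ m : G'.U ⟶ pullback G'.pU G'.pU,
      m = pullback.lift mt (𝟙 G'.U) (by rw [hmt_over, Category.id_comp]) := ⟨_, rfl⟩
  have hm1 : m ≫ pullback.fst G'.pU G'.pU = mt := by rw [hm, pullback.lift_fst]
  have hm2 : m ≫ pullback.snd G'.pU G'.pU = 𝟙 G'.U := by rw [hm, pullback.lift_snd]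
  have hp1 : φ.prodMap ≫ pullback.fst G.pU G.pU = pullback.fst G'.pU G'.pU ≫ φ.fU :=
    pullback.lift_fst _ _ _
  have hp2 : φ.prodMap ≫ pullback.snd G.pU G.pU = pullback.snd G'.pU G'.pU ≫ φ.fU :=
    pullback.lift_snd _ _ _
  have hcomm : ρ ≫ G.j = m ≫ φ.prodMap := by
    apply pullback.hom_ext
    · calc (ρ ≫ G.j) ≫ pullback.fst G.pU G.pU = ρ ≫ (G.j ≫ pullback.fst G.pU G.pU) :=
            Category.assoc _ _ _
        _ = ρ ≫ G.t := by rw [G.j_fst]
        _ = mt ≫ φ.fU := hρt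
        _ = (m ≫ pullback.fst G'.pU G'.pU) ≫ φ.fU := by rw [hm1]
        _ = m ≫ (pullback.fst G'.pU G'.pU ≫ φ.fU) := Category.assoc _ _ _
        _ = m ≫ (φ.prodMap ≫ pullback.fst G.pU G.pU) := by rw [hp1]
        _ = (m ≫ φ.prodMap) ≫ pullback.fst G.pU G.pU := (Category.assoc _ _ _).symm
    · calc (ρ ≫ G.j) ≫ pullback.snd G.pU G.pU = ρ ≫ (G.j ≫ pullback.snd G.pU G.pU) :=
            Category.assoc _ _ _
        _ = ρ ≫ G.s := by rw [G.j_snd]
        _ = φ.fU := hρs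
        _ = 𝟙 G'.U ≫ φ.fU := (Category.id_comp _).symm
        _ = (m ≫ pullback.snd G'.pU G'.pU) ≫ φ.fU := by rw [hm2]
        _ = m ≫ (pullback.snd G'.pU G'.pU ≫ φ.fU) := Category.assoc _ _ _
        _ = m ≫ (φ.prodMap ≫ pullback.snd G.pU G.pU) := by rw [hp2]
        _ = (m ≫ φ.prodMap) ≫ pullback.snd G.pU G.pU := (Category.assoc _ _ _).symm
  have hr1 : hres'.lift ρ m hcomm ≫ G'.s = 𝟙 G'.U :=
    calc hres'.lift ρ m hcomm ≫ G'.s
        = hres'.lift ρ m hcomm ≫ (G'.j ≫ pullback.snd G'.pU G'.pU) := by rw [G'.j_snd]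
      _ = (hres'.lift ρ m hcomm ≫ G'.j) ≫ pullback.snd G'.pU G'.pU := (Category.assoc _ _ _).symm
      _ = m ≫ pullback.snd G'.pU G'.pU := by rw [hres'.lift_snd]
      _ = 𝟙 G'.U := hm2
  have hr2 : hres'.lift ρ m hcomm ≫ G'.t = mt :=
    calc hres'.lift ρ m hcomm ≫ G'.t
        = hres'.lift ρ m hcomm ≫ (G'.j ≫ pullback.fst G'.pU G'.pU) := by rw [G'.j_fst]
      _ = (hres'.lift ρ m hcomm ≫ G'.j) ≫ pullback.fst G'.pU G'.pU := (Category.assoc _ _ _).symm
      _ = m ≫ pullback.fst G'.pU G'.pU := by rw [hres'.lift_snd]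
      _ = mt := hm1
  refine ⟨hres'.lift ρ m hcomm, ?_, ?_, ?_⟩
  · intro x
    rw [hres'.lift_fst, hρ, ← Category.assoc, Points.map_comp]
    exact map_toHom_eq G.R p _
  · rw [hr1]; infer_instance
  · rw [hr2, hmt]; infer_instance

/-- Assembly: the same with `W = Spec k'`, the morphisms given by ring homomorphisms. -/
theorem assemble {B : Sp S} (G : GroupoidSp B) {k : Type u} [Field k]
    (σ : Spec (CommRingCat.of k) ⟶ S) (eU : G.U ≅ (yon S).obj (Over.mk σ)) (p : FieldPt G.R)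
    (sO tO : p.pt ⟶ Over.mk σ)
    (hsO : (yon S).map sO = p.toHom ≫ G.s ≫ eU.hom)
    (htO : (yon S).map tO = p.toHom ≫ G.t ≫ eU.hom)
    (σ0 τ0 : k →+* p.K)
    (hσ0 : Spec.map (CommRingCat.ofHom σ0) = sO.left)
    (hτ0 : Spec.map (CommRingCat.ofHom τ0) = tO.left)
    {k' : Type u} [Field k'] [Algebra k k'] (ι : p.K →+* k') (β : k' ≃+* k')
    (halg : algebraMap k k' = ι.comp σ0)
    (hβ : β.toRingHom.comp (ι.comp σ0) = ι.comp τ0)
    (G' : GroupoidSp B) (φ : GroupoidSp.Hom G' G) (hres : φ.IsRestriction)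
    (eU' : G'.U ≅ (yon S).obj (Over.mk (Spec.map (CommRingCat.ofHom (algebraMap k k')) ≫ σ)))
    (hφ : φ.fU = eU'.hom ≫ (yon S).map
      (Over.homMk (Spec.map (CommRingCat.ofHom (algebraMap k k'))) rfl :
        Over.mk (Spec.map (CommRingCat.ofHom (algebraMap k k')) ≫ σ) ⟶ Over.mk σ) ≫ eU.inv) :
    ∃ r' : G'.U ⟶ G'.R, (∀ x : Points G'.U, Points.map (r' ≫ φ.fR) x = Points.mk p) ∧
      IsIso (r' ≫ G'.s) ∧ IsIso (r' ≫ G'.t) := by
  obtain ⟨sL, hsL⟩ : ∃ sL : Spec (CommRingCat.of p.K) ⟶ Spec (CommRingCat.of k), sL = sO.left :=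
    ⟨_, rfl⟩
  obtain ⟨tL, htL⟩ : ∃ tL : Spec (CommRingCat.of p.K) ⟶ Spec (CommRingCat.of k), tL = tO.left :=
    ⟨_, rfl⟩
  have hsw : sL ≫ σ = p.str := by rw [hsL]; exact Over.w sO
  have htw : tL ≫ σ = p.str := by rw [htL]; exact Over.w tO
  have hσ1 : Spec.map (CommRingCat.ofHom σ0) = sL := by rw [hsL]; exact hσ0
  have hτ1 : Spec.map (CommRingCat.ofHom τ0) = tL := by rw [htL]; exact hτ0
  have e1 : Spec.map (CommRingCat.ofHom ι) ≫ sL =
      Spec.map (CommRingCat.ofHom (algebraMap k k')) := by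
    rw [← hσ1, ← Spec.map_comp, ← CommRingCat.ofHom_comp, halg]
  have e2 : Spec.map (CommRingCat.ofHom β.toRingHom) ≫
      Spec.map (CommRingCat.ofHom (algebraMap k k')) = Spec.map (CommRingCat.ofHom ι) ≫ tL := by
    rw [← hτ1, ← Spec.map_comp, ← Spec.map_comp, ← CommRingCat.ofHom_comp,
      ← CommRingCat.ofHom_comp, halg, hβ]
  have wι : Spec.map (CommRingCat.ofHom ι) ≫ p.str =
      Spec.map (CommRingCat.ofHom (algebraMap k k')) ≫ σ := by
    rw [← e1, Category.assoc, hsw]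
  have wβ : Spec.map (CommRingCat.ofHom β.toRingHom) ≫
      (Spec.map (CommRingCat.ofHom (algebraMap k k')) ≫ σ) =
      Spec.map (CommRingCat.ofHom (algebraMap k k')) ≫ σ := by
    rw [← Category.assoc, e2, Category.assoc, htw, wι]
  haveI hiso0 : IsIso (CommRingCat.ofHom β.toRingHom) := β.toCommRingCatIso.isIso_hom
  haveI hiso1 : IsIso (Spec.map (CommRingCat.ofHom β.toRingHom)) := inferInstance
  obtain ⟨βO, hβO⟩ : ∃ βO : Over.mk (Spec.map (CommRingCat.ofHom (algebraMap k k')) ≫ σ) ⟶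
      Over.mk (Spec.map (CommRingCat.ofHom (algebraMap k k')) ≫ σ),
      βO.left = Spec.map (CommRingCat.ofHom β.toRingHom) :=
    ⟨Over.homMk (Spec.map (CommRingCat.ofHom β.toRingHom)) wβ, rfl⟩
  haveI hiso2 : IsIso ((Over.forget S).map βO) := by
    change IsIso βO.left
    rw [hβO]; exact hiso1
  haveI hiso3 : IsIso βO := isIso_of_reflects_iso βO (Over.forget S)
  obtain ⟨aO, haO, haO'⟩ : ∃ aO : Over.mk (Spec.map (CommRingCat.ofHom (algebraMap k k')) ≫ σ) ⟶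
      Over.mk σ, aO = Over.homMk (Spec.map (CommRingCat.ofHom (algebraMap k k'))) rfl ∧
      aO.left = Spec.map (CommRingCat.ofHom (algebraMap k k')) := ⟨_, rfl, rfl⟩
  obtain ⟨ιO, hιO⟩ : ∃ ιO : Over.mk (Spec.map (CommRingCat.ofHom (algebraMap k k')) ≫ σ) ⟶ p.pt,
      ιO.left = Spec.map (CommRingCat.ofHom ι) :=
    ⟨Over.homMk (Spec.map (CommRingCat.ofHom ι)) wι, rfl⟩
  rw [← haO] at hφ
  have h1 : ιO ≫ sO = aO := by
    apply Over.OverMorphism.ext
    rw [Over.comp_left, hιO, haO', ← hsL]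
    exact e1
  have h2 : βO ≫ aO = ιO ≫ tO := by
    apply Over.OverMorphism.ext
    rw [Over.comp_left, Over.comp_left, hιO, haO', hβO, ← htL]
    exact e2
  exact core G eU p sO tO hsO htO aO ιO βO h1 h2 G' φ hres eU' hφ

/-- The statement of S10146 without the unused hypotheses. -/
theorem main {B : Sp S} (G : GroupoidSp B) (k : Type u) [Field k]
    (σ : Spec (CommRingCat.of k) ⟶ S) (eU : G.U ≅ (yon S).obj (Over.mk σ)) (r : Points G.R) :
    ∃ (k' : Type u) (_ : Field k') (_ : Algebra k k'), IsAlgClosed k' ∧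
      ∀ (G' : GroupoidSp B) (φ : GroupoidSp.Hom G' G), φ.IsRestriction →
        ∀ (eU' : G'.U ≅ (yon S).obj
          (Over.mk (Spec.map (CommRingCat.ofHom (algebraMap k k')) ≫ σ))),
          φ.fU = eU'.hom ≫ (yon S).map
            (Over.homMk (Spec.map (CommRingCat.ofHom (algebraMap k k'))) rfl :
              Over.mk (Spec.map (CommRingCat.ofHom (algebraMap k k')) ≫ σ) ⟶ Over.mk σ) ≫
              eU.inv →
          ∃ r' : G'.U ⟶ G'.R, (∀ x : Points G'.U, Points.map (r' ≫ φ.fR) x = r) ∧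
            IsIso (r' ≫ G'.s) ∧ IsIso (r' ≫ G'.t) := by
  obtain ⟨p, rfl⟩ := Points.mk_surjective r
  obtain ⟨sO, hsO⟩ : ∃ sO : p.pt ⟶ Over.mk σ, (yon S).map sO = p.toHom ≫ G.s ≫ eU.hom :=
    ⟨(yon S).preimage _, (yon S).map_preimage _⟩
  obtain ⟨tO, htO⟩ : ∃ tO : p.pt ⟶ Over.mk σ, (yon S).map tO = p.toHom ≫ G.t ≫ eU.hom :=
    ⟨(yon S).preimage _, (yon S).map_preimage _⟩
  obtain ⟨σ0, hσ0⟩ : ∃ σ0 : k →+* p.K, Spec.map (CommRingCat.ofHom σ0) = sO.left :=
    ⟨(Spec.preimage sO.left).hom, Spec.map_preimage _⟩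
  obtain ⟨τ0, hτ0⟩ : ∃ τ0 : k →+* p.K, Spec.map (CommRingCat.ofHom τ0) = tO.left :=
    ⟨(Spec.preimage tO.left).hom, Spec.map_preimage _⟩
  obtain ⟨k', hF, hAC, ι, β, hβ⟩ := exists_big_algClosed σ0 τ0
  letI algI : Algebra k k' := (ι.comp σ0).toAlgebra
  refine ⟨k', hF, algI, hAC, ?_⟩
  intro G' φ hres eU' hφ
  exact assemble G σ eU p sO tO hsO htO σ0 τ0 hσ0 hτ0 ι β rfl hβ G' φ hres eU' hφ

end Groth.Agent.Helper2.GpdField
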