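import Mathlib
import Groth.Prelude.Def_Grpd
import Groth.Agent.Lib.Helper2.GpdField.FieldExt

/-!
# Points of the restriction of a groupoid scheme over a field to an algebraically closed
extension (helper2)
-/

set_option backward.isDefEq.respectTransparency.types false
set_option autoImplicit false
set_option synthInstance.maxHeartbeats 400000
set_option maxHeartbeats 4000000
set_option linter.style.haveILetI false
set_option linter.unusedSectionVars false
set_option linter.unusedVariables false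
set_option linter.unusedSimpArgs false
set_option linter.unnecessarySimpa false

open CategoryTheory CategoryTheory.Limits AlgebraicGeometry

namespace Groth.Agent.Helper2.GpdField

universe u

/-- If `q ≫ f` is an isomorphism then `f` induces an isomorphism of residue fields at every point
in the image of `q`. -/
theorem isIso_residueFieldMap_of_comp_isIso {X Y : Scheme.{u}} (q : Y ⟶ X) (f : X ⟶ Y)
    [IsIso (q ≫ f)] (y : Y) : IsIso (f.residueFieldMap (q y)) := by
  have h : (q ≫ f).residueFieldMap y = f.residueFieldMap (q y) ≫ q.residueFieldMap y :=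
    Scheme.residueFieldMap_comp q f y
  haveI h0 : IsIso ((q ≫ f).residueFieldMap y) := inferInstance
  haveI h1 : IsIso (f.residueFieldMap (q y) ≫ q.residueFieldMap y) := by rw [← h]; exact h0
  have hbij := ConcreteCategory.bijective_of_isIso
    (f.residueFieldMap (q y) ≫ q.residueFieldMap y)
  have hb : Function.Bijective (q.residueFieldMap y) := by
    refine ⟨(q.residueFieldMap y).hom.injective, fun z => ?_⟩
    obtain ⟨w, hw⟩ := hbij.2 z
    exact ⟨(f.residueFieldMap (q y)) w, hw⟩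
  haveI h2 : IsIso (q.residueFieldMap y) := (ConcreteCategory.isIso_iff_bijective _).2 hb
  have h3 : f.residueFieldMap (q y) =
      (f.residueFieldMap (q y) ≫ q.residueFieldMap y) ≫ inv (q.residueFieldMap y) := by
    rw [Category.assoc, IsIso.hom_inv_id, Category.comp_id]
  rw [h3]; infer_instance

theorem sch_core {U R : Scheme.{u}} (s t : R ⟶ U) (r : R) {W P : Scheme.{u}} (g : W ⟶ U)
    (fr : P ⟶ R) (hfr : ∀ x : P, fr x = r) (ιs : W ⟶ P) (βs : W ⟶ W) [IsIso βs]
    (h1 : ιs ≫ fr ≫ s = g) (h2 : βs ≫ g = ιs ≫ fr ≫ t) (c : W) :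
    ∃ r' : ↑(pullback (pullback.snd g t ≫ s) g),
      (pullback.fst (pullback.snd g t ≫ s) g ≫ pullback.snd g t) r' = r ∧
      IsIso ((pullback.snd (pullback.snd g t ≫ s) g).residueFieldMap r') ∧
      IsIso ((pullback.fst (pullback.snd g t ≫ s) g ≫ pullback.fst g t).residueFieldMap r') := by
  obtain ⟨b, hb⟩ : ∃ b : W ⟶ R, b = ιs ≫ fr := ⟨_, rfl⟩
  have hbs : b ≫ s = g := by rw [hb, Category.assoc]; exact h1
  have hbt : βs ≫ g = b ≫ t := by rw [hb, Category.assoc]; exact h2
  obtain ⟨q1, hq1⟩ : ∃ q1 : W ⟶ pullback g t, q1 = pullback.lift βs b hbt := ⟨_, rfl⟩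
  have hq1f : q1 ≫ pullback.fst g t = βs := by rw [hq1, pullback.lift_fst]
  have hq1s : q1 ≫ pullback.snd g t = b := by rw [hq1, pullback.lift_snd]
  have hq : q1 ≫ (pullback.snd g t ≫ s) = 𝟙 W ≫ g := by
    rw [← Category.assoc, hq1s, hbs, Category.id_comp]
  obtain ⟨q, hqd⟩ : ∃ q : W ⟶ pullback (pullback.snd g t ≫ s) g,
      q = pullback.lift q1 (𝟙 W) hq := ⟨_, rfl⟩
  have hqf : q ≫ pullback.fst (pullback.snd g t ≫ s) g = q1 := by rw [hqd, pullback.lift_fst]
  have hqs : q ≫ pullback.snd (pullback.snd g t ≫ s) g = 𝟙 W := by rw [hqd, pullback.lift_snd]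
  have hqt : q ≫ (pullback.fst (pullback.snd g t ≫ s) g ≫ pullback.fst g t) = βs := by
    rw [← Category.assoc, hqf, hq1f]
  have hqb : q ≫ (pullback.fst (pullback.snd g t ≫ s) g ≫ pullback.snd g t) = b := by
    rw [← Category.assoc, hqf, hq1s]
  refine ⟨q c, ?_, ?_, ?_⟩
  · refine (Scheme.Hom.comp_apply q _ c).symm.trans ?_
    rw [hqb, hb, Scheme.Hom.comp_apply]
    exact hfr _
  · haveI : IsIso (q ≫ pullback.snd (pullback.snd g t ≫ s) g) := by rw [hqs]; infer_instance
    exact isIso_residueFieldMap_of_comp_isIso q _ c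
  · haveI : IsIso (q ≫ (pullback.fst (pullback.snd g t ≫ s) g ≫ pullback.fst g t)) := by
      rw [hqt]; infer_instance
    exact isIso_residueFieldMap_of_comp_isIso q _ c

theorem sch_main (S : Scheme.{u}) (G : Grpd.GroupoidScheme S) (k : Type u) [Field k]
    (eU : G.U ≅ Spec (CommRingCat.of k)) (r : G.R) :
    ∃ (k' : Type u) (_ : Field k') (_ : IsAlgClosed k') (_ : Algebra k k'),
      ∃ r' : ↑(pullback (pullback.snd (Spec.map (CommRingCat.ofHom (algebraMap k k')) ≫ eU.inv)
          G.t ≫ G.s) (Spec.map (CommRingCat.ofHom (algebraMap k k')) ≫ eU.inv)),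
        (pullback.fst (pullback.snd (Spec.map (CommRingCat.ofHom (algebraMap k k')) ≫ eU.inv)
          G.t ≫ G.s) (Spec.map (CommRingCat.ofHom (algebraMap k k')) ≫ eU.inv) ≫
          pullback.snd (Spec.map (CommRingCat.ofHom (algebraMap k k')) ≫ eU.inv) G.t) r' = r ∧
        IsIso ((pullback.snd (pullback.snd (Spec.map (CommRingCat.ofHom (algebraMap k k')) ≫
          eU.inv) G.t ≫ G.s) (Spec.map (CommRingCat.ofHom (algebraMap k k')) ≫
          eU.inv)).residueFieldMap r') ∧
        IsIso ((pullback.fst (pullback.snd (Spec.map (CommRingCat.ofHom (algebraMap k k')) ≫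
          eU.inv) G.t ≫ G.s) (Spec.map (CommRingCat.ofHom (algebraMap k k')) ≫ eU.inv) ≫
          pullback.fst (Spec.map (CommRingCat.ofHom (algebraMap k k')) ≫ eU.inv)
            G.t).residueFieldMap r') := by
  obtain ⟨fr, hfr⟩ : ∃ fr : Spec (CommRingCat.of ↑(G.R.residueField r)) ⟶ G.R,
      fr = G.R.fromSpecResidueField r := ⟨_, rfl⟩
  have hfr' : ∀ x : ↑(Spec (CommRingCat.of ↑(G.R.residueField r))), fr x = r := by
    intro x
    rw [hfr]
    exact Scheme.fromSpecResidueField_apply _ _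
  obtain ⟨σ0, hσ0⟩ : ∃ σ0 : k →+* ↑(G.R.residueField r),
      Spec.map (CommRingCat.ofHom σ0) = fr ≫ G.s ≫ eU.hom :=
    ⟨(Spec.preimage (fr ≫ G.s ≫ eU.hom)).hom, Spec.map_preimage _⟩
  obtain ⟨τ0, hτ0⟩ : ∃ τ0 : k →+* ↑(G.R.residueField r),
      Spec.map (CommRingCat.ofHom τ0) = fr ≫ G.t ≫ eU.hom :=
    ⟨(Spec.preimage (fr ≫ G.t ≫ eU.hom)).hom, Spec.map_preimage _⟩
  have hs' : fr ≫ G.s = Spec.map (CommRingCat.ofHom σ0) ≫ eU.inv := by
    rw [hσ0, Category.assoc, Category.assoc, eU.hom_inv_id, Category.comp_id]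
  have ht' : fr ≫ G.t = Spec.map (CommRingCat.ofHom τ0) ≫ eU.inv := by
    rw [hτ0, Category.assoc, Category.assoc, eU.hom_inv_id, Category.comp_id]
  obtain ⟨k', hF, hAC, ι, β, hβ⟩ := exists_big_algClosed σ0 τ0
  letI algI : Algebra k k' := (ι.comp σ0).toAlgebra
  have halg : algebraMap k k' = ι.comp σ0 := rfl
  refine ⟨k', hF, hAC, algI, ?_⟩
  haveI hiso0 : IsIso (CommRingCat.ofHom β.toRingHom) := β.toCommRingCatIso.isIso_hom
  haveI hiso1 : IsIso (Spec.map (CommRingCat.ofHom β.toRingHom)) := inferInstance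
  refine sch_core G.s G.t r (Spec.map (CommRingCat.ofHom (algebraMap k k')) ≫ eU.inv) fr hfr'
    (Spec.map (CommRingCat.ofHom ι)) (Spec.map (CommRingCat.ofHom β.toRingHom)) ?_ ?_
    (IsLocalRing.closedPoint k')
  · rw [hs', ← Category.assoc, ← Spec.map_comp, ← CommRingCat.ofHom_comp, halg]
  · rw [ht', ← Category.assoc, ← Category.assoc, ← Spec.map_comp, ← Spec.map_comp,
      ← CommRingCat.ofHom_comp, ← CommRingCat.ofHom_comp, halg, hβ]

end Groth.Agent.Helper2.GpdField
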